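import Mathlib

/-! Square-zero extensions from extensions of Kähler differentials. -/

set_option autoImplicit false

universe u

open TensorProduct

namespace KaExtLib

theorem exists_extension {A B : Type u} [CommRing A] [CommRing B] [Algebra A B]
    (M N : Type u) [AddCommGroup M] [Module B M] [AddCommGroup N] [Module B N]
    (i : M →ₗ[B] N) (q : N →ₗ[B] Ω[B⁄A]) (hi : Function.Injective i) (hq : Function.Surjective q)
    (hex : Function.Exact i q) :
    ∃ P : Algebra.Extension.{u} A B, P.ker ^ 2 = ⊥ ∧
      ∃ (e₁ : P.Cotangent ≃ₗ[B] M) (e₂ : P.CotangentSpace ≃ₗ[B] N),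
        (∀ x, e₂ (P.cotangentComplex x) = i (e₁ x)) ∧ (∀ y, q (e₂ y) = P.toKaehler y) := by
  letI : Module Bᵐᵒᵖ N := Module.compHom N ((RingHom.id B).fromOpposite fun x y => mul_comm x y)
  haveI : IsCentralScalar B N := ⟨fun _ _ => rfl⟩
  letI : Module A N := Module.compHom N (algebraMap A B)
  haveI : IsScalarTower A B N := IsScalarTower.of_algebraMap_smul fun _ _ => rfl
  letI : Module Aᵐᵒᵖ N := Module.compHom N ((RingHom.id A).fromOpposite fun x y => mul_comm x y)
  haveI : IsCentralScalar A N := ⟨fun _ _ => rfl⟩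
  haveI : IsScalarTower A Bᵐᵒᵖ N := ⟨fun a b n => by
    show (a • b.unop) • n = a • (b.unop • n)
    exact smul_assoc a b.unop n⟩
  let E : Subalgebra A (TrivSqZeroExt B N) :=
    { carrier := {x | q x.snd = KaehlerDifferential.D A B x.fst}
      mul_mem' := fun {x y} hx hy => by
        show q (x * y).snd = KaehlerDifferential.D A B (x * y).fst
        rw [TrivSqZeroExt.snd_mul, TrivSqZeroExt.fst_mul, map_add, op_smul_eq_smul, map_smul, map_smul,
          Derivation.leibniz, hx, hy]
      add_mem' := fun {x y} hx hy => by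
        show q (x.snd + y.snd) = KaehlerDifferential.D A B (x.fst + y.fst)
        rw [map_add, map_add, hx, hy]
      algebraMap_mem' := fun a => by
        show q (TrivSqZeroExt.snd (algebraMap A (TrivSqZeroExt B N) a)) =
          KaehlerDifferential.D A B (TrivSqZeroExt.fst (algebraMap A (TrivSqZeroExt B N) a))
        rw [TrivSqZeroExt.algebraMap_eq_inl', TrivSqZeroExt.snd_inl, TrivSqZeroExt.fst_inl, map_zero,
          Derivation.map_algebraMap] }
  let π : E →ₐ[A] B := (TrivSqZeroExt.fstHom A B N).comp E.val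
  have hπ : Function.Surjective π := fun b => by
    obtain ⟨n, hn⟩ := hq (KaehlerDifferential.D A B b)
    exact ⟨⟨TrivSqZeroExt.inl b + TrivSqZeroExt.inr n, by
      show q (TrivSqZeroExt.snd (TrivSqZeroExt.inl b + TrivSqZeroExt.inr n)) =
        KaehlerDifferential.D A B (TrivSqZeroExt.fst (TrivSqZeroExt.inl b + TrivSqZeroExt.inr n))
      simp [hn]⟩, by
      show TrivSqZeroExt.fst (TrivSqZeroExt.inl b + TrivSqZeroExt.inr n) = b
      simp⟩
  let P : Algebra.Extension.{u} A B := Algebra.Extension.ofSurjective π hπ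
  have hmap : ∀ e : P.Ring, algebraMap P.Ring B e = TrivSqZeroExt.fst e.1 := fun _ => rfl
  have hker : P.ker ^ 2 = ⊥ := by
    rw [eq_bot_iff, pow_two, Ideal.mul_le]
    intro x hx y hy
    have hx0 : TrivSqZeroExt.fst x.1 = 0 := hx
    have hy0 : TrivSqZeroExt.fst y.1 = 0 := hy
    refine (Submodule.mem_bot _).2 (Subtype.ext ?_)
    show x.1 * y.1 = 0
    ext
    · rw [TrivSqZeroExt.fst_mul, hx0, zero_mul]; rfl
    · rw [TrivSqZeroExt.snd_mul, hx0, hy0]; simp
  letI : Module P.Ring N := Module.compHom N (algebraMap P.Ring B)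
  haveI : IsScalarTower P.Ring B N := IsScalarTower.of_algebraMap_smul fun _ _ => rfl
  haveI : IsScalarTower A P.Ring N := IsScalarTower.of_algebraMap_smul fun a n => by
    show algebraMap P.Ring B (algebraMap A P.Ring a) • n = a • n
    rw [← IsScalarTower.algebraMap_apply]
    rfl
  let δ : Derivation A P.Ring N := Derivation.mk'
    { toFun := fun e => TrivSqZeroExt.snd e.1
      map_add' := fun x y => rfl
      map_smul' := fun a x => rfl } fun x y => by
      show TrivSqZeroExt.snd (x.1 * y.1) = TrivSqZeroExt.fst x.1 • TrivSqZeroExt.snd y.1 +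
        TrivSqZeroExt.fst y.1 • TrivSqZeroExt.snd x.1
      rw [TrivSqZeroExt.snd_mul, op_smul_eq_smul]
  let Φ : P.CotangentSpace →ₗ[B] N := (δ.liftKaehlerDifferential).liftBaseChange B
  have hΦ : ∀ e : P.Ring, Φ (1 ⊗ₜ KaehlerDifferential.D A P.Ring e) = TrivSqZeroExt.snd e.1 := fun e => by
    simp only [Φ, LinearMap.liftBaseChange_tmul, one_smul, Derivation.liftKaehlerDifferential_comp_D]
    rfl
  have hcomm : q ∘ₗ Φ = P.toKaehler := by
    refine LinearMap.ext fun y => ?_
    induction y using TensorProduct.induction_on with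
    | zero => simp
    | add y z hy hz => rw [map_add, map_add, hy, hz]
    | tmul b ω =>
      rw [← mul_one b, ← smul_eq_mul, ← TensorProduct.smul_tmul', map_smul, map_smul]
      congr 1
      have hspan := KaehlerDifferential.span_range_derivation A P.Ring
      have : ω ∈ Submodule.span P.Ring (Set.range (KaehlerDifferential.D A P.Ring)) := hspan ▸ trivial
      induction this using Submodule.span_induction with
      | mem x hx =>
        obtain ⟨e, rfl⟩ := hx
        rw [LinearMap.comp_apply, hΦ]
        refine (e.2 : q (TrivSqZeroExt.snd e.1) = _).trans ?_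
        show _ = KaehlerDifferential.mapBaseChange A P.Ring B (1 ⊗ₜ[P.Ring] KaehlerDifferential.D A P.Ring e)
        rw [KaehlerDifferential.mapBaseChange_tmul, one_smul, KaehlerDifferential.map_D]
        rfl
      | zero => simp
      | add x y _ _ hx hy => rw [tmul_add, map_add, map_add, hx, hy]
      | smul c x _ hx => rw [tmul_smul, LinearMap.map_smul_of_tower, LinearMap.map_smul_of_tower, hx]
  have hg : ∀ x, Φ (P.cotangentComplex x) ∈ LinearMap.range i := fun x => by
    refine (hex _).1 ?_
    rw [← LinearMap.comp_apply, hcomm]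
    exact P.exact_cotangentComplex_toKaehler.apply_apply_eq_zero x
  let g : P.Cotangent →ₗ[B] M := (LinearEquiv.ofInjective i hi).symm.toLinearMap ∘ₗ
    LinearMap.codRestrict (LinearMap.range i) (Φ ∘ₗ P.cotangentComplex) hg
  have hgi : ∀ x, i (g x) = Φ (P.cotangentComplex x) := fun x => by
    have := (LinearEquiv.ofInjective i hi).apply_symm_apply ⟨_, hg x⟩
    exact congrArg Subtype.val this
  have hginj : Function.Injective g := (injective_iff_map_eq_zero g).2 fun x hx => by
    obtain ⟨k, rfl⟩ := Algebra.Extension.Cotangent.mk_surjective x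
    have h := hgi (Algebra.Extension.Cotangent.mk k)
    rw [hx, map_zero, P.cotangentComplex_mk, hΦ] at h
    have hk : (k : P.Ring) = 0 := Subtype.ext (TrivSqZeroExt.ext (k.2 : _) h.symm)
    rw [show k = 0 from Subtype.ext hk, map_zero]
  have hgsurj : Function.Surjective g := fun m => by
    have hm : q (i m) = 0 := hex.apply_apply_eq_zero m
    let e : P.Ring := ⟨TrivSqZeroExt.inr (i m), by
      show q (TrivSqZeroExt.snd (TrivSqZeroExt.inr (i m))) = KaehlerDifferential.D A B (TrivSqZeroExt.fst (TrivSqZeroExt.inr (i m) : TrivSqZeroExt B N))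
      simp [hm]⟩
    have he : e ∈ P.ker := RingHom.mem_ker.2 ((hmap e).trans (TrivSqZeroExt.fst_inr (R := B) (i m)))
    refine ⟨Algebra.Extension.Cotangent.mk ⟨e, he⟩, hi ?_⟩
    rw [hgi, P.cotangentComplex_mk, hΦ]
    exact TrivSqZeroExt.snd_inr _ _
  have hΦb : Function.Bijective Φ := by
    refine ⟨(injective_iff_map_eq_zero Φ).2 fun y hy => ?_, fun n => ?_⟩
    · obtain ⟨x, rfl⟩ := (P.exact_cotangentComplex_toKaehler y).1 (by rw [← hcomm, LinearMap.comp_apply, hy, map_zero])
      have : g x = 0 := hi (by rw [hgi, hy, map_zero])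
      rw [hginj (this.trans (map_zero g).symm), map_zero]
    · obtain ⟨y, hy⟩ := P.toKaehler_surjective (q n)
      obtain ⟨m, hm⟩ := (hex (n - Φ y)).1 (by rw [map_sub, ← hy, ← hcomm, LinearMap.comp_apply, sub_self])
      obtain ⟨x, hx⟩ := hgsurj m
      exact ⟨y + P.cotangentComplex x, by rw [map_add, ← hgi, hx, hm, add_sub_cancel]⟩
  exact ⟨P, hker, LinearEquiv.ofBijective g ⟨hginj, hgsurj⟩, LinearEquiv.ofBijective Φ hΦb,
    fun x => (hgi x).symm, fun y => LinearMap.congr_fun hcomm y⟩

end KaExtLib
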