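import Groth.Prelude.Def_Exal
import Groth.Prelude.Def_Exal2
import Mathlib

/-! Extensions of a ring and of a ring with the same truncations. -/

set_option autoImplicit false

universe u

namespace KaExtLib

section

variable {Λ R S L : Type u} [CommRing Λ] [CommRing R] [CommRing S] [Algebra Λ R] [Algebra Λ S] [Algebra R S]
  [IsScalarTower Λ R S] [AddCommGroup L] [Module S L] [Module R L] [IsScalarTower R S L]

theorem proj_incl' {B : Type u} [CommRing B] [Algebra Λ B] [Module B L] (X : Exal.Ext Λ B L) (z : L) :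
    X.proj (X.incl z) = 0 := (X.isExtension.exact _).2 ⟨z, rfl⟩

theorem exists_preimage_of_map_eq {B : Type u} [CommRing B] [Algebra Λ B] [Module B L] (X : Exal.Ext Λ B L)
    (I : Ideal X.E) {n : Ideal B} (hI : Ideal.map X.proj I = n) {r : B} (hr : r ∈ n) : ∃ t ∈ I, X.proj t = r :=
  (Ideal.mem_map_iff_of_surjective X.proj X.isExtension.proj_surjective).1 (hI.symm ▸ hr)

set_option maxHeartbeats 400000 in
/-- Injectivity of inverse image along a map inducing isomorphisms on truncations. -/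
theorem equiv_of_pullback_equiv (m : Ideal R) (n : Ideal S) (N : ℕ)
    (hsurj : ∀ s : S, ∃ r : R, s - algebraMap R S r ∈ n ^ (N + 2))
    (hcomap : (n ^ (N + 2)).comap (algebraMap R S) = m ^ (N + 2)) (hmn : m.map (algebraMap R S) ≤ n)
    (hkill : ∀ r ∈ m, ∀ z : L, r • z = 0)
    (X X' : Exal.Ext Λ S L) (I : Ideal X.E) (hI : ∀ x ∈ I, X.proj x = 0 → x = 0)
    (hIn : Ideal.map X.proj I = n ^ (N + 1))
    (I' : Ideal X'.E) (hI' : ∀ x ∈ I', X'.proj x = 0 → x = 0) (hIn' : Ideal.map X'.proj I' = n ^ (N + 1))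
    (h : Nonempty ((X.pullback R).Equiv (X'.pullback R))) : Nonempty (X.Equiv X') := by
  obtain ⟨e⟩ := h
  let M : Ideal X.E := n.comap X.proj
  let M' : Ideal X'.E := n.comap X'.proj
  let J : Ideal X.E := I * M
  let J' : Ideal X'.E := I' * M'
  have hpow : n ^ (N + 2) = n ^ (N + 1) * n := pow_succ _ _
  have hJn : Ideal.map X.proj J = n ^ (N + 2) := by
    rw [Ideal.map_mul, hIn, Ideal.map_comap_of_surjective _ X.isExtension.proj_surjective, hpow]
  have hJn' : Ideal.map X'.proj J' = n ^ (N + 2) := by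
    rw [Ideal.map_mul, hIn', Ideal.map_comap_of_surjective _ X'.isExtension.proj_surjective, hpow]
  have hJ : ∀ x ∈ J, X.proj x = 0 → x = 0 := fun x hx => hI x (Ideal.mul_le_inf hx).1
  have hJ' : ∀ x ∈ J', X'.proj x = 0 → x = 0 := fun x hx => hI' x (Ideal.mul_le_inf hx).1
  let P := (X.pullback R).E
  let j : P →ₐ[Λ] X.E := (AlgHom.fst Λ X.E R).comp (X.fiberProd R).val
  let j' : P →ₐ[Λ] X'.E := ((AlgHom.fst Λ X'.E R).comp (X'.fiberProd R).val).comp e.toAlgEquiv.toAlgHom
  have hj : ∀ p : P, X.proj (j p) = algebraMap R S p.1.2 := fun p => p.2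
  have hj' : ∀ p : P, X'.proj (j' p) = algebraMap R S p.1.2 := fun p => by
    refine Eq.trans (e.toAlgEquiv p).2 (congrArg (algebraMap R S) ?_)
    exact e.proj_apply p
  let Q : P →ₐ[Λ] X.E ⧸ J := (Ideal.Quotient.mkₐ Λ J).comp j
  let Q' : P →ₐ[Λ] X'.E ⧸ J' := (Ideal.Quotient.mkₐ Λ J').comp j'
  -- elements over the ideal powers
  let G : Ideal P := I.comap j.toRingHom
  have hQ : Function.Surjective Q := fun z => by
    obtain ⟨x, rfl⟩ := Ideal.Quotient.mk_surjective z
    obtain ⟨r, hr⟩ := hsurj (X.proj x)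
    obtain ⟨t, ht, hts⟩ := exists_preimage_of_map_eq X J hJn hr
    refine ⟨⟨(x - t, r), ?_⟩, ?_⟩
    · show X.proj (x - t) = algebraMap R S r
      rw [map_sub, hts, sub_sub_cancel]
    · exact Ideal.Quotient.eq.2 (by show x - t - x ∈ J; simpa using J.neg_mem ht)
  have hker : RingHom.ker Q.toRingHom ≤ RingHom.ker Q'.toRingHom := fun p hp => by
    have hpJ : j p ∈ J := Ideal.Quotient.eq_zero_iff_mem.1 hp
    have hr : p.1.2 ∈ m ^ (N + 1) * m := by
      rw [← pow_succ, ← hcomap, Ideal.mem_comap, ← hj, ← hJn]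
      exact Ideal.mem_map_of_mem _ hpJ
    have key : ∀ r ∈ m ^ (N + 1) * m, ∃ q : P, q.1.2 = r ∧ j q ∈ J ∧ j' q ∈ J' := fun r hr => by
      refine Submodule.mul_induction_on hr (fun a ha b hb => ?_) fun a b ⟨qa, ha, ha1, ha2⟩ ⟨qb, hb, hb1, hb2⟩ => ?_
      · have han : algebraMap R S a ∈ n ^ (N + 1) := by
          have := Ideal.mem_map_of_mem (algebraMap R S) ha
          rw [Ideal.map_pow] at this
          exact Ideal.pow_right_mono hmn _ this
        have hbn : algebraMap R S b ∈ n := hmn (Ideal.mem_map_of_mem _ hb)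
        obtain ⟨ta, hta, htaπ⟩ := exists_preimage_of_map_eq X I hIn han
        obtain ⟨xb, hxb⟩ := X.isExtension.proj_surjective (algebraMap R S b)
        let pa : P := ⟨(ta, a), htaπ⟩
        let pb : P := ⟨(xb, b), hxb⟩
        refine ⟨pa * pb, rfl, ?_, ?_⟩
        · show j (pa * pb) ∈ J
          rw [map_mul]
          exact Ideal.mul_mem_mul hta (show X.proj xb ∈ n from hxb ▸ hbn)
        · show j' (pa * pb) ∈ J'
          rw [map_mul]
          obtain ⟨t', ht', ht'π⟩ := exists_preimage_of_map_eq X' I' hIn' han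
          obtain ⟨z, hz⟩ := (X'.isExtension.exact (j' pa - t')).1 (by rw [map_sub, hj', ht'π]; exact sub_self _)
          rw [show j' pa = t' + X'.incl z by rw [hz, add_sub_cancel], add_mul]
          refine J'.add_mem (Ideal.mul_mem_mul ht' (show X'.proj (j' pb) ∈ n by rw [hj']; exact hbn)) ?_
          rw [mul_comm, X'.isExtension.mul_incl, hj', algebraMap_smul, hkill b hb, map_zero]
          exact zero_mem _
      · exact ⟨qa + qb, by rw [← ha, ← hb]; rfl, by rw [map_add]; exact J.add_mem ha1 hb1,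
          by rw [map_add]; exact J'.add_mem ha2 hb2⟩
    obtain ⟨q, hq, hq1, hq2⟩ := key _ hr
    have hpq : p = q := by
      refine Subtype.ext (Prod.ext ?_ hq.symm)
      have := hJ _ (J.sub_mem hpJ hq1) (by rw [map_sub, hj, hj, hq, sub_self])
      exact sub_eq_zero.1 this
    exact Ideal.Quotient.eq_zero_iff_mem.2 (hpq ▸ hq2)
  let ebar : (X.E ⧸ J) →+* X'.E ⧸ J' := RingHom.liftOfSurjective Q.toRingHom hQ ⟨Q'.toRingHom, hker⟩
  have hebar : ∀ p, ebar (Q p) = Q' p := fun p =>
    RingHom.liftOfSurjective_comp_apply _ _ ⟨Q'.toRingHom, hker⟩ p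
  have hex : ∀ x : X.E, ∃! x' : X'.E, X'.proj x' = X.proj x ∧
      Ideal.Quotient.mk J' x' = ebar (Ideal.Quotient.mk J x) := fun x => by
    obtain ⟨p, hp⟩ := hQ (Ideal.Quotient.mk J x)
    have hpx : j p - x ∈ J := Ideal.Quotient.eq.1 hp
    have hd : X.proj x - X'.proj (j' p) ∈ n ^ (N + 2) := by
      rw [hj', ← hj, ← map_sub, ← hJn]
      refine Ideal.mem_map_of_mem _ ?_
      rw [← neg_sub]
      exact J.neg_mem hpx
    obtain ⟨t, ht, htπ⟩ := exists_preimage_of_map_eq X' J' hJn' hd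
    refine ⟨j' p + t, ⟨by rw [map_add, htπ, add_sub_cancel], ?_⟩, fun y hy => ?_⟩
    · rw [← hp, hebar, map_add, Ideal.Quotient.eq_zero_iff_mem.2 ht, add_zero]
      rfl
    · have h2 : y - (j' p + t) ∈ J' := by
        rw [← Ideal.Quotient.eq, hy.2, map_add, Ideal.Quotient.eq_zero_iff_mem.2 ht, add_zero, ← hp, hebar]
        rfl
      exact sub_eq_zero.1 (hJ' _ h2 (by rw [map_sub, hy.1, map_add, htπ, add_sub_cancel, sub_self]))
  choose φ hφ hφu using hex
  have hu : ∀ x y, X'.proj y = X.proj x → Ideal.Quotient.mk J' y = ebar (Ideal.Quotient.mk J x) → φ x = y :=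
    fun x y h1 h2 => (hφu x y ⟨h1, h2⟩).symm
  have hadd : ∀ a b, φ (a + b) = φ a + φ b := fun a b => hu _ _ (by rw [map_add, map_add, (hφ a).1, (hφ b).1])
    (by rw [map_add, map_add, map_add, (hφ a).2, (hφ b).2])
  have hmul : ∀ a b, φ (a * b) = φ a * φ b := fun a b => hu _ _ (by rw [map_mul, map_mul, (hφ a).1, (hφ b).1])
    (by rw [map_mul, map_mul, map_mul, (hφ a).2, (hφ b).2])
  have halg : ∀ a : Λ, φ (algebraMap Λ X.E a) = algebraMap Λ X'.E a := fun a => hu _ _
    (by rw [AlgHom.commutes, AlgHom.commutes]) (by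
      have h1 : Q (algebraMap Λ P a) = Ideal.Quotient.mk J (algebraMap Λ X.E a) := Q.commutes a
      rw [← h1, hebar]
      exact (Q'.commutes a).symm)
  have hincl : ∀ z, φ (X.incl z) = X'.incl z := fun z => hu _ _ (by rw [proj_incl', proj_incl']) (by
    have h1 : Q ((X.pullback R).incl z) = Ideal.Quotient.mk J (X.incl z) := rfl
    rw [← h1, hebar]
    show _ = Ideal.Quotient.mk J' ((e.toAlgEquiv ((X.pullback R).incl z)).1.1)
    rw [e.apply_incl]
    rfl)
  let Φ : X.E →ₐ[Λ] X'.E :=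
    { toFun := φ
      map_one' := by have := halg 1; rwa [map_one, map_one] at this
      map_mul' := hmul
      map_zero' := by have := halg 0; rwa [map_zero, map_zero] at this
      map_add' := hadd
      commutes' := halg }
  have hb : Function.Bijective Φ := by
    refine ⟨(injective_iff_map_eq_zero Φ).2 fun x hx => ?_, fun y => ?_⟩
    · have h1 : X.proj x = 0 := by rw [← (hφ x).1, show φ x = 0 from hx, map_zero]
      obtain ⟨z, rfl⟩ := (X.isExtension.exact x).1 h1
      rw [X'.isExtension.incl_injective ((hincl z).symm.trans (hx.trans (map_zero X'.incl).symm)), map_zero]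
    · obtain ⟨x, hx⟩ := X.isExtension.proj_surjective (X'.proj y)
      obtain ⟨z, hz⟩ := (X'.isExtension.exact (y - φ x)).1 (by rw [map_sub, (hφ x).1, hx, sub_self])
      exact ⟨x + X.incl z, by show φ _ = y; rw [hadd, hincl, hz, add_sub_cancel]⟩
  exact ⟨{ toAlgEquiv := AlgEquiv.ofBijective Φ hb, proj_apply := fun x => (hφ x).1, apply_incl := hincl }⟩

/-- Surjectivity of inverse image along a map inducing isomorphisms on truncations. -/
theorem exists_pullback_equiv (m : Ideal R) (N : ℕ) (q : S →ₐ[Λ] R ⧸ m ^ (N + 1))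
    (hqs : Function.Surjective q) (hq : ∀ r, q (algebraMap R S r) = Ideal.Quotient.mk (m ^ (N + 1)) r)
    (hkill : ∀ r : R, ∀ s : S, q s = Ideal.Quotient.mk (m ^ (N + 1)) r → ∀ z : L, s • z = r • z)
    (Y : Exal.Ext Λ R L) (I : Ideal Y.E) (hI : ∀ x ∈ I, Y.proj x = 0 → x = 0)
    (hIn : Ideal.map Y.proj I = m ^ (N + 1)) :
    ∃ X : Exal.Ext Λ S L, Nonempty ((X.pullback R).Equiv Y) := by
  let qY : Y.E →ₐ[Λ] Y.E ⧸ I := Ideal.Quotient.mkₐ Λ I
  let π : (Y.E ⧸ I) →ₐ[Λ] R ⧸ m ^ (N + 1) := Ideal.Quotient.liftₐ I ((Ideal.Quotient.mkₐ Λ _).comp Y.proj)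
    fun x hx => Ideal.Quotient.eq_zero_iff_mem.2 (hIn ▸ Ideal.mem_map_of_mem _ hx)
  have hπ : ∀ y, π (qY y) = Ideal.Quotient.mk (m ^ (N + 1)) (Y.proj y) := fun y => rfl
  have hπker : ∀ z, π z = 0 → ∃ l, qY (Y.incl l) = z := fun z hz => by
    obtain ⟨y, rfl⟩ := Ideal.Quotient.mk_surjective z
    obtain ⟨t, ht, htπ⟩ := exists_preimage_of_map_eq Y I hIn (Ideal.Quotient.eq_zero_iff_mem.1 hz)
    obtain ⟨l, hl⟩ := (Y.isExtension.exact (y - t)).1 (by rw [map_sub, htπ]; exact sub_self _)
    exact ⟨l, Ideal.Quotient.eq.2 (by rw [hl, sub_sub_cancel_left]; exact I.neg_mem ht)⟩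
  let E : Subalgebra Λ ((Y.E ⧸ I) × S) :=
    AlgHom.equalizer (π.comp (AlgHom.fst Λ (Y.E ⧸ I) S)) (q.comp (AlgHom.snd Λ (Y.E ⧸ I) S))
  have hE : ∀ l, ((qY (Y.incl l), (0 : S)) : (Y.E ⧸ I) × S) ∈ E := fun l => by
    show π (qY (Y.incl l)) = q 0
    rw [hπ, proj_incl', map_zero, map_zero]
  let X : Exal.Ext Λ S L :=
    { E := E
      proj := (AlgHom.snd Λ (Y.E ⧸ I) S).comp E.val
      incl :=
        { toFun := fun l => ⟨(qY (Y.incl l), 0), hE l⟩
          map_zero' := Subtype.ext (Prod.ext (by simp) rfl)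
          map_add' := fun a b => Subtype.ext (Prod.ext (by simp) (add_zero 0).symm) }
      isExtension :=
        { proj_surjective := fun s => by
            obtain ⟨r, hr⟩ := Ideal.Quotient.mk_surjective (q s)
            obtain ⟨y, rfl⟩ := Y.isExtension.proj_surjective r
            exact ⟨⟨(qY y, s), (hπ y).trans hr⟩, rfl⟩
          incl_injective := fun a b hab => by
            have h1 : qY (Y.incl a) = qY (Y.incl b) := congrArg (fun x : E => x.1.1) hab
            refine Y.isExtension.incl_injective (sub_eq_zero.1 (hI _ (Ideal.Quotient.eq.1 h1) ?_))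
            rw [map_sub, proj_incl', proj_incl', sub_self]
          exact := fun x => by
            constructor
            · intro hx
              have hx2 : x.1.2 = 0 := hx
              have hxE : π x.1.1 = q x.1.2 := x.2
              rw [hx2, map_zero] at hxE
              obtain ⟨l, hl⟩ := hπker _ hxE
              exact ⟨l, Subtype.ext (Prod.ext hl hx2.symm)⟩
            · rintro ⟨l, rfl⟩
              rfl
          mul_incl := fun x l => by
            obtain ⟨⟨z, s⟩, hzs⟩ := x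
            obtain ⟨y, rfl⟩ := Ideal.Quotient.mk_surjective z
            refine Subtype.ext (Prod.ext ?_ (mul_zero s))
            show qY y * qY (Y.incl l) = qY (Y.incl (s • l))
            rw [← map_mul, Y.isExtension.mul_incl, hkill (Y.proj y) s ((hzs : π (qY y) = q s).symm.trans (hπ y))] } }
  let G : Y.E →ₐ[Λ] (X.pullback R).E := AlgHom.codRestrict
    ((AlgHom.codRestrict (qY.prod ((IsScalarTower.toAlgHom Λ R S).comp Y.proj)) E fun y => by
      show π (qY y) = q (algebraMap R S (Y.proj y))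
      rw [hq, hπ]).prod Y.proj) _ fun y => rfl
  have hGi : ∀ l, G (Y.incl l) = (X.pullback R).incl l := fun l => by
    refine Subtype.ext (Prod.ext (Subtype.ext (Prod.ext rfl ?_)) (proj_incl' Y l))
    show algebraMap R S (Y.proj (Y.incl l)) = 0
    rw [proj_incl', map_zero]
  have hb : Function.Bijective G := by
    refine ⟨(injective_iff_map_eq_zero G).2 fun y hy => ?_, fun p => ?_⟩
    · exact hI y (Ideal.Quotient.eq_zero_iff_mem.1 (congrArg (fun p => p.1.1.1.1) hy)) (congrArg (fun p => p.1.2) hy)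
    · obtain ⟨y, hy⟩ := Y.isExtension.proj_surjective p.1.2
      obtain ⟨l, hl⟩ := ((X.pullback R).isExtension.exact (p - G y)).1 (by
        show p.1.2 - Y.proj y = 0
        rw [hy, sub_self])
      exact ⟨y + Y.incl l, by rw [map_add, hGi, hl, add_sub_cancel]⟩
  refine ⟨X, ⟨Exal.Ext.Equiv.symm { toAlgEquiv := AlgEquiv.ofBijective G hb, proj_apply := fun y => rfl, apply_incl := hGi }⟩⟩

end

end KaExtLib
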