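import Mathlib

/-! Comparing square-zero extensions with the same conormal sequence. -/

set_option autoImplicit false

universe u

open TensorProduct

namespace KaExtLib

variable {A B : Type u} [CommRing A] [CommRing B] [Algebra A B]

/-- At a smooth point the conormal sequence of a square zero extension is injective. -/
theorem exists_smul_eq_zero (P : Algebra.Extension.{u} A B) (hsq : P.ker ^ 2 = ⊥) (p : Ideal B) [p.IsPrime]
    (hp : Algebra.IsSmoothAt A p) (x : P.Cotangent) (hx : P.cotangentComplex x = 0) :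
    ∃ s ∉ p, s • x = 0 := by
  let E := P.Ring
  let Bp := Localization.AtPrime p
  let T : Submonoid E := p.primeCompl.comap (algebraMap E B)
  let Ep := Localization T
  let π : Ep →ₐ[A] Bp := IsLocalization.liftAlgHom (M := T) (f := (IsScalarTower.toAlgHom A B Bp).comp (IsScalarTower.toAlgHom A E B))
    fun t => IsLocalization.map_units Bp (⟨algebraMap E B t, t.2⟩ : p.primeCompl)
  have hπ : ∀ e : E, π (algebraMap E Ep e) = algebraMap B Bp (algebraMap E B e) := fun e => IsLocalization.lift_eq _ e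
  have hπs : Function.Surjective π := fun z => by
    obtain ⟨⟨b, s⟩, hz⟩ := IsLocalization.surj p.primeCompl z
    obtain ⟨e, rfl⟩ := P.algebraMap_surjective b
    obtain ⟨t, ht⟩ := P.algebraMap_surjective s.1
    have htT : t ∈ T := show algebraMap E B t ∈ p.primeCompl from ht ▸ s.2
    refine ⟨IsLocalization.mk' Ep e ⟨t, htT⟩, ?_⟩
    refine (IsLocalization.map_units Bp s).mul_left_injective ?_
    dsimp only
    have h1 := congrArg π (IsLocalization.mk'_spec Ep e ⟨t, htT⟩)
    rw [map_mul, hπ, hπ, ht] at h1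
    rw [h1, hz]
  have hK : ∀ z : Ep, π z = 0 → ∃ (k : E) (t : T), k ∈ P.ker ∧ z * algebraMap E Ep t = algebraMap E Ep k := fun z hz => by
    obtain ⟨⟨e, t⟩, he⟩ := IsLocalization.surj T z
    have h0 : algebraMap B Bp (algebraMap E B e) = 0 := by rw [← hπ, ← he, map_mul, hz, zero_mul]
    obtain ⟨⟨s, hs⟩, hse⟩ := (IsLocalization.map_eq_zero_iff p.primeCompl Bp _).1 h0
    refine ⟨e * P.σ s, t * ⟨P.σ s, show algebraMap E B (P.σ s) ∈ p.primeCompl by rw [P.algebraMap_σ]; exact hs⟩, ?_, ?_⟩
    · rw [RingHom.mem_ker, map_mul, P.algebraMap_σ, mul_comm]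
      exact hse
    · rw [Submonoid.coe_mul, map_mul, map_mul, ← mul_assoc, he]
  let K : Ideal Ep := RingHom.ker π.toRingHom
  have hKK : ∀ a ∈ K, ∀ b ∈ K, a * b = 0 := fun a ha b hb => by
    obtain ⟨k, t, hk, hkt⟩ := hK a ha
    obtain ⟨l, r, hl, hlr⟩ := hK b hb
    refine ((IsLocalization.map_units Ep t).mul (IsLocalization.map_units Ep r)).mul_left_injective ?_
    dsimp only
    rw [mul_mul_mul_comm, hkt, hlr, ← map_mul, zero_mul]
    rw [show k * l = 0 from (Submodule.mem_bot E).1 (hsq ▸ (pow_two P.ker).symm ▸ Ideal.mul_mem_mul hk hl), map_zero]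
  have hKn : IsNilpotent (RingHom.ker π.toRingHom) := ⟨2, by
    rw [Ideal.zero_eq_bot, eq_bot_iff, pow_two, Ideal.mul_le]
    exact fun a ha b hb => (Submodule.mem_bot _).2 (hKK a ha b hb)⟩
  haveI : Algebra.FormallySmooth A Bp := hp
  let h : Bp →ₐ[A] Ep := Algebra.FormallySmooth.liftOfSurjective (AlgHom.id A Bp) π hπs hKn
  have hh : ∀ z, π (h z) = z := fun z => Algebra.FormallySmooth.liftOfSurjective_apply _ π hπs hKn z
  let τ : B →+* Ep := h.toRingHom.comp (algebraMap B Bp)
  have hτ : ∀ e : E, algebraMap E Ep e - τ (algebraMap E B e) ∈ K := fun e => by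
    show π _ = 0
    rw [map_sub, hπ, sub_eq_zero]
    exact (hh _).symm
  letI : Module B K := Module.compHom K τ
  haveI : IsScalarTower E B K := IsScalarTower.of_algebraMap_smul fun e k => Subtype.ext (by
    show τ (algebraMap E B e) * k.1 = e • k.1
    rw [Algebra.smul_def, ← sub_eq_zero, ← sub_mul, ← neg_sub, neg_mul, hKK _ (hτ e) _ k.2, neg_zero])
  let δ : Derivation A E K := Derivation.mk'
    { toFun := fun e => ⟨algebraMap E Ep e - τ (algebraMap E B e), hτ e⟩
      map_add' := fun x y => Subtype.ext (by simp only [map_add, Submodule.coe_add]; ring)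
      map_smul' := fun a x => Subtype.ext (by
        show algebraMap E Ep (a • x) - h (algebraMap B Bp (algebraMap E B (a • x))) =
          a • (algebraMap E Ep x - h (algebraMap B Bp (algebraMap E B x)))
        rw [smul_sub, Algebra.smul_def, map_mul, map_mul, ← IsScalarTower.algebraMap_apply A E Ep,
          ← IsScalarTower.algebraMap_apply A E B, map_mul, map_mul, ← IsScalarTower.algebraMap_apply A B Bp,
          AlgHom.commutes, ← Algebra.smul_def, ← Algebra.smul_def]) } fun x y => Subtype.ext (by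
      show algebraMap E Ep (x * y) - τ (algebraMap E B (x * y)) =
        x • (algebraMap E Ep y - τ (algebraMap E B y)) + y • (algebraMap E Ep x - τ (algebraMap E B x))
      rw [Algebra.smul_def, Algebra.smul_def]
      rw [map_mul, map_mul, map_mul]
      linear_combination -hKK _ (hτ x) _ (hτ y))
  let L : P.CotangentSpace →ₗ[B] K := δ.liftKaehlerDifferential.liftBaseChange B
  obtain ⟨k, rfl⟩ := Algebra.Extension.Cotangent.mk_surjective x
  rw [P.cotangentComplex_mk] at hx
  have h1 : δ k.1 = 0 := by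
    have := congrArg L hx
    rw [map_zero] at this
    refine Eq.trans ?_ this
    exact (Derivation.liftKaehlerDifferential_comp_D δ k.1).symm.trans (one_smul B _).symm
  have h2 : algebraMap E Ep k.1 = 0 := by
    have := congrArg Subtype.val h1
    have hk0 : algebraMap E B k.1 = 0 := k.2
    change algebraMap E Ep k.1 - τ (algebraMap E B k.1) = 0 at this
    rwa [hk0, map_zero, sub_zero] at this
  obtain ⟨⟨t, ht⟩, htk⟩ := (IsLocalization.map_eq_zero_iff T Ep _).1 h2
  refine ⟨algebraMap E B t, ht, ?_⟩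
  rw [algebraMap_smul, ← map_smul, show t • k = 0 from Subtype.ext htk, map_zero]

theorem cotangentComplex_injective [IsReduced B] (hsm : ∀ p : PrimeSpectrum B, p.asIdeal ∈ minimalPrimes B → Algebra.IsSmoothAt A p.asIdeal)
    (P : Algebra.Extension.{u} A B) (hsq : P.ker ^ 2 = ⊥) [Module.Projective B P.Cotangent] :
    Function.Injective P.cotangentComplex := by
  refine (injective_iff_map_eq_zero _).2 fun x hx => Module.eval_apply_eq_zero_iff B x |>.1 ?_
  refine LinearMap.ext fun φ => ?_
  show φ x = 0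
  have : φ x ∈ nilradical B := by
    rw [nilradical, ← Ideal.sInf_minimalPrimes]
    refine Submodule.mem_sInf.2 fun (p : Ideal B) hp => ?_
    haveI := Ideal.minimalPrimes_isPrime hp
    obtain ⟨s, hs, hsx⟩ := exists_smul_eq_zero P hsq p (hsm ⟨p, inferInstance⟩ hp) x hx
    have h0 : s * φ x = 0 := by rw [← smul_eq_mul, ← map_smul, hsx, map_zero]
    exact ((‹p.IsPrime›).mem_or_mem (h0 ▸ zero_mem p)).resolve_left hs
  simpa [nilradical_eq_zero] using this

theorem exists_hom [IsReduced B] (hsm : ∀ p : PrimeSpectrum B, p.asIdeal ∈ minimalPrimes B → Algebra.IsSmoothAt A p.asIdeal)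
    (P P' : Algebra.Extension.{u} A B) (hsq : P.ker ^ 2 = ⊥) (hsq' : P'.ker ^ 2 = ⊥)
    [Module.Projective B P.Cotangent]
    (e₁ : P.Cotangent ≃ₗ[B] P'.Cotangent) (e₂ : P.CotangentSpace ≃ₗ[B] P'.CotangentSpace)
    (h₁ : ∀ x, e₂ (P.cotangentComplex x) = P'.cotangentComplex (e₁ x))
    (h₂ : ∀ y, P'.toKaehler (e₂ y) = P.toKaehler y) :
    ∃ f : P.Hom P', Function.Bijective f.toRingHom ∧
      Algebra.Extension.Cotangent.map f = e₁.toLinearMap := by
  have hc : Function.Injective P.cotangentComplex := cotangentComplex_injective hsm P hsq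
  have hc' : Function.Injective P'.cotangentComplex := fun x y hxy => by
    refine e₁.symm.injective (hc (e₂.injective ?_))
    rwa [h₁, h₁, e₁.apply_symm_apply, e₁.apply_symm_apply]
  -- elements of an extension are determined by their image and their differential
  have huniq : ∀ (Q : Algebra.Extension.{u} A B), Q.ker ^ 2 = ⊥ → Function.Injective Q.cotangentComplex →
      ∀ a b : Q.Ring, algebraMap Q.Ring B a = algebraMap Q.Ring B b →
      (1 ⊗ₜ[Q.Ring] KaehlerDifferential.D A Q.Ring a : Q.CotangentSpace) = 1 ⊗ₜ KaehlerDifferential.D A Q.Ring b →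
      a = b := fun Q hQ hQc a b hab hd => by
    have hk : a - b ∈ Q.ker := RingHom.mem_ker.2 (by rw [map_sub, hab, sub_self])
    have h0 : Algebra.Extension.Cotangent.mk (⟨a - b, hk⟩ : Q.ker) = 0 := hQc (by
      rw [Q.cotangentComplex_mk, map_zero, map_sub, tmul_sub, hd, sub_self])
    rw [Algebra.Extension.Cotangent.mk_eq_zero_iff, hQ, Submodule.mem_bot] at h0
    exact sub_eq_zero.1 h0
  have hex : ∀ e : P.Ring, ∃ e' : P'.Ring, algebraMap P'.Ring B e' = algebraMap P.Ring B e ∧
      (1 ⊗ₜ[P'.Ring] KaehlerDifferential.D A P'.Ring e' : P'.CotangentSpace) =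
        e₂ (1 ⊗ₜ KaehlerDifferential.D A P.Ring e) := fun e => by
    let e₀ := P'.σ (algebraMap P.Ring B e)
    obtain ⟨x, hx⟩ := (P'.exact_cotangentComplex_toKaehler
      (e₂ (1 ⊗ₜ KaehlerDifferential.D A P.Ring e) - 1 ⊗ₜ KaehlerDifferential.D A P'.Ring e₀)).1 (by
      rw [map_sub, h₂, sub_eq_zero]
      simp only [Algebra.Extension.toKaehler, KaehlerDifferential.mapBaseChange_tmul, one_smul,
        KaehlerDifferential.map_D, e₀, P'.algebraMap_σ])
    obtain ⟨k, rfl⟩ := Algebra.Extension.Cotangent.mk_surjective x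
    refine ⟨e₀ + k, by rw [map_add, P'.algebraMap_σ, show algebraMap P'.Ring B k = 0 from k.2, add_zero], ?_⟩
    rw [map_add, tmul_add, ← P'.cotangentComplex_mk, hx, add_sub_cancel]
  choose f hfπ hfd using hex
  have hu := huniq P' hsq' hc'
  have hadd : ∀ a b, f (a + b) = f a + f b := fun a b => hu _ _ (by rw [map_add, hfπ, hfπ, hfπ, map_add])
    (by rw [hfd, map_add, tmul_add, map_add, map_add, tmul_add, hfd, hfd])
  have hmul : ∀ a b, f (a * b) = f a * f b := fun a b => hu _ _ (by rw [map_mul, hfπ, hfπ, hfπ, map_mul]) (by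
    rw [hfd, Derivation.leibniz, Derivation.leibniz, tmul_add, tmul_add, map_add]
    rw [tmul_smul, tmul_smul, tmul_smul, tmul_smul, ← algebraMap_smul B a, ← algebraMap_smul B b, map_smul, map_smul,
      ← algebraMap_smul B (f a), ← algebraMap_smul B (f b), hfπ, hfπ, hfd, hfd])
  have halg : ∀ a : A, f (algebraMap A P.Ring a) = algebraMap A P'.Ring a := fun a => hu _ _
    (by rw [hfπ, ← IsScalarTower.algebraMap_apply, ← IsScalarTower.algebraMap_apply])
    (by rw [hfd, Derivation.map_algebraMap, Derivation.map_algebraMap, tmul_zero, map_zero, tmul_zero])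
  let φ : P.Ring →ₐ[A] P'.Ring :=
    { toFun := f
      map_one' := by have := halg 1; rwa [map_one, map_one] at this
      map_mul' := hmul
      map_zero' := by have := halg 0; rwa [map_zero, map_zero] at this
      map_add' := hadd
      commutes' := halg }
  let F : P.Hom P' := Algebra.Extension.Hom.ofAlgHom φ (AlgHom.ext fun e => hfπ e)
  refine ⟨F, ⟨fun a b hab => ?_, fun e' => ?_⟩, ?_⟩
  · have hab' : f a = f b := hab
    refine huniq P hsq hc a b (by rw [← hfπ, ← hfπ b, hab']) (e₂.injective ?_)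
    rw [← hfd, ← hfd, hab']
  · let a₀ := P.σ (algebraMap P'.Ring B e')
    have hk : e' - f a₀ ∈ P'.ker := RingHom.mem_ker.2 (by rw [map_sub, hfπ, P.algebraMap_σ, sub_self])
    obtain ⟨k, hk'⟩ := Algebra.Extension.Cotangent.mk_surjective (e₁.symm (Algebra.Extension.Cotangent.mk ⟨e' - f a₀, hk⟩))
    refine ⟨a₀ + k, hu _ _ ?_ ?_⟩
    · show algebraMap P'.Ring B (f (a₀ + k)) = _
      rw [hfπ, map_add, P.algebraMap_σ, show algebraMap P.Ring B k = 0 from k.2, add_zero]
    · show _ ⊗ₜ[P'.Ring] KaehlerDifferential.D A P'.Ring (f (a₀ + k)) = _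
      rw [hfd, map_add, tmul_add, map_add, ← hfd, ← P.cotangentComplex_mk, h₁, hk', e₁.apply_symm_apply,
        P'.cotangentComplex_mk, ← tmul_add, ← map_add, add_sub_cancel]
  · refine LinearMap.ext fun x => ?_
    obtain ⟨k, rfl⟩ := Algebra.Extension.Cotangent.mk_surjective x
    refine hc' ?_
    rw [Algebra.Extension.Cotangent.map_mk, P'.cotangentComplex_mk]
    show _ ⊗ₜ[P'.Ring] KaehlerDifferential.D A P'.Ring (f k) = P'.cotangentComplex (e₁ (Algebra.Extension.Cotangent.mk k))
    rw [hfd, ← h₁, P.cotangentComplex_mk]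

end KaExtLib
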