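import Mathlib

/-! A power-quotient lemma. -/

set_option autoImplicit false

namespace KaExtLib

theorem isNilpotent_map_mk {A : Type*} [CommRing A] (I : Ideal A) (n : ℕ) :
    IsNilpotent (I.map (Ideal.Quotient.mk (I ^ n))) :=
  ⟨n, by rw [← Ideal.map_pow, Ideal.map_quotient_self]; rfl⟩

end KaExtLib
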