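import Groth.Prelude.Def_Exal
import Groth.Agent.KaExtLib.Completion
import Groth.Agent.KaExtLib.NilQuot
import Groth.Agent.CohenLib.PSHom
import Groth.Agent.PurityLib.PSExt
import Mathlib

/-! Lifting a map from a power series ring to a square zero extension. -/

set_option autoImplicit false

universe u

namespace KaExtLib

set_option maxHeartbeats 800000 in
theorem exists_ps_lift {Λ : Type u} [CommRing Λ] {d : ℕ} {R : Type u} [CommRing R] [Algebra Λ R]
    {L : Type u} [AddCommGroup L] [Module R L] (π : MvPowerSeries (Fin d) Λ →+* R)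
    (hπC : ∀ a : Λ, π (MvPowerSeries.C a) = algebraMap Λ R a) (m : Ideal R)
    (hXm : ∀ i, π (MvPowerSeries.X i) ∈ m) (X : Exal.Ext Λ R L) (I : Ideal X.E)
    (hI : ∀ x ∈ I, X.proj x = 0 → x = 0) {N : ℕ} (hIn : Ideal.map X.proj I = m ^ (N + 1)) :
    ∃ u : MvPowerSeries (Fin d) Λ →ₐ[Λ] X.E, ∀ p, X.proj (u p) = π p := by
  let P := MvPowerSeries (Fin d) Λ
  have hii : ∀ z w : L, X.incl z * X.incl w = 0 := fun z w => by
    rw [X.isExtension.mul_incl, proj_incl']
    exact (congrArg X.incl (zero_smul R w)).trans (map_zero _)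
  replace hii := fun (_ : Unit) => hii
  let Z := X.E ⧸ I
  let MX : Ideal X.E := (m).comap X.proj
  let MZ : Ideal Z := MX.map (Ideal.Quotient.mk I)
  have hnil : IsNilpotent MZ := by
    refine ⟨(N + 1) + (N + 1), ?_⟩
    rw [← Ideal.map_pow, Ideal.zero_eq_bot, Ideal.map_eq_bot_iff_le_ker, Ideal.mk_ker, pow_add, Ideal.mul_le]
    intro a ha b hb
    have key : ∀ a ∈ MX ^ (N + 1), ∃ t ∈ I, ∃ z, a = t + X.incl z := fun a ha => by
      have h1 : X.proj a ∈ m ^ (N + 1) := by
        have h2 := Ideal.mem_map_of_mem X.proj ha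
        rw [Ideal.map_pow] at h2
        exact Ideal.pow_right_mono Ideal.map_comap_le _ h2
      obtain ⟨t, ht, htπ⟩ := exists_preimage_of_map_eq X I hIn h1
      obtain ⟨z, hz⟩ := (X.isExtension.exact (a - t)).1 (by rw [map_sub, htπ]; exact sub_self _)
      exact ⟨t, ht, z, by rw [hz, add_sub_cancel]⟩
    obtain ⟨t, ht, z, rfl⟩ := key a ha
    obtain ⟨s, hs, w, rfl⟩ := key b hb
    rw [add_mul, mul_add (X.incl z), hii (), add_zero]
    exact add_mem (I.mul_mem_right _ ht) (I.mul_mem_left _ hs)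
  haveI := CohenLib.isAdicComplete_of_isNilpotent MZ hnil
  choose xi hxi using fun i => X.isExtension.proj_surjective (π (MvPowerSeries.X i))
  have hximem : ∀ i, Ideal.Quotient.mk I (xi i) ∈ MZ := fun i => Ideal.mem_map_of_mem _ (show X.proj (xi i) ∈ _ from hxi i ▸ hXm i)
  let uZ := CohenLib.psHom MZ ((Ideal.Quotient.mk I).comp (algebraMap Λ X.E)) (fun i => Ideal.Quotient.mk I (xi i)) hximem
  let T := R ⧸ m ^ (N + 1)
  let πZ : Z →+* T := Ideal.Quotient.lift I ((Ideal.Quotient.mk _).comp X.proj.toRingHom) fun x hx =>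
    Ideal.Quotient.eq_zero_iff_mem.2 (hIn ▸ Ideal.mem_map_of_mem _ hx)
  let MT : Ideal T := (m).map (Ideal.Quotient.mk (m ^ (N + 1)))
  have hMT : IsNilpotent MT := isNilpotent_map_mk (m) (N + 1)
  haveI := CohenLib.isAdicComplete_of_isNilpotent MT hMT
  have hcomp : πZ.comp uZ = (Ideal.Quotient.mk (m ^ (N + 1))).comp π := by
    refine PurityLib.psHom_ext MT _ _ (fun c => ?_) (fun i => ?_) (fun i => ?_)
    · rw [RingHom.comp_apply, CohenLib.psHom_C]
      exact congrArg (Ideal.Quotient.mk _) ((X.proj.commutes c).trans (hπC c).symm)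
    · rw [RingHom.comp_apply, CohenLib.psHom_X]
      exact congrArg (Ideal.Quotient.mk _) (hxi i)
    · rw [RingHom.comp_apply, CohenLib.psHom_X]
      exact Ideal.mem_map_of_mem (Ideal.Quotient.mk _) (show X.proj (xi i) ∈ _ from hxi i ▸ hXm i)
  have hex : ∀ p : P, ∃! x : X.E, X.proj x = π p ∧ Ideal.Quotient.mk I x = uZ p := fun p => by
    obtain ⟨y, hy⟩ := Ideal.Quotient.mk_surjective (uZ p)
    have h1 : π p - X.proj y ∈ m ^ (N + 1) := by
      rw [← Ideal.Quotient.eq]
      refine (RingHom.congr_fun hcomp p).symm.trans ?_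
      rw [RingHom.comp_apply, ← hy]
      rfl
    obtain ⟨t, ht, htπ⟩ := exists_preimage_of_map_eq X I hIn h1
    refine ⟨y + t, ⟨by rw [map_add, htπ]; exact add_sub_cancel _ _, ?_⟩, fun x hx => ?_⟩
    · rw [map_add, Ideal.Quotient.eq_zero_iff_mem.2 ht, add_zero, hy]
    · have h2 : x - (y + t) ∈ I := by
        rw [← Ideal.Quotient.eq, hx.2, map_add, Ideal.Quotient.eq_zero_iff_mem.2 ht, add_zero, hy]
      exact sub_eq_zero.1 (hI _ h2 (by rw [map_sub, hx.1, map_add, htπ, add_sub_cancel]; exact sub_self _))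
  choose φ hφ hφu using hex
  have hu : ∀ p x, X.proj x = π p → Ideal.Quotient.mk I x = uZ p → φ p = x :=
    fun p x h1 h2 => (hφu p x ⟨h1, h2⟩).symm
  have halg : ∀ a : Λ, φ (MvPowerSeries.C a) = algebraMap Λ X.E a := fun a => hu _ _
    ((X.proj.commutes a).trans (hπC a).symm) (CohenLib.psHom_C MZ ((Ideal.Quotient.mk I).comp (algebraMap Λ X.E)) _ hximem a).symm
  exact ⟨{ toFun := φ
           map_one' := hu _ _ (by rw [map_one, map_one]) (by rw [map_one, map_one])
           map_mul' := fun a b => hu _ _ (by rw [map_mul, map_mul, (hφ a).1, (hφ b).1])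
             (by rw [map_mul, map_mul, (hφ a).2, (hφ b).2])
           map_zero' := hu _ _ (by rw [map_zero, map_zero]) (by rw [map_zero, map_zero])
           map_add' := fun a b => hu _ _ (by rw [map_add, map_add, (hφ a).1, (hφ b).1])
             (by rw [map_add, map_add, (hφ a).2, (hφ b).2])
           commutes' := halg }, fun p => (hφ p).1⟩

end KaExtLib
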