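import Groth.Prelude.Def_Exal
import Groth.Prelude.Def_Exal2
import Mathlib

/-! Vanishing of the relative obstruction space. -/

set_option autoImplicit false

universe u

namespace KaExtLib

variable {k Λ R L : Type u} [CommRing k] [CommRing Λ] [CommRing R] [Algebra k Λ] [Algebra Λ R] [Algebra k R]
  [IsScalarTower k Λ R] [AddCommGroup L] [Module R L] [Module Λ L] [IsScalarTower Λ R L] [Module k L] [IsScalarTower k Λ L]

theorem proj_incl {A B M : Type u} [CommRing A] [CommRing B] [Algebra A B] [AddCommGroup M] [Module B M]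
    (X : Exal.Ext A B M) (z : M) : X.proj (X.incl z) = 0 := (X.isExtension.exact _).2 ⟨z, rfl⟩

theorem incl_smul_eq {A B M : Type u} [CommRing A] [CommRing B] [Algebra A B] [AddCommGroup M] [Module B M]
    (X : Exal.Ext A B M) (x : X.E) (z : M) : X.incl z * x = X.incl (X.proj x • z) := by
  rw [mul_comm, X.isExtension.mul_incl]

theorem equiv_of_pullback (h : ∀ X : Exal.Ext Λ R L, X.IsTrivial) (Y Y' : Exal.Ext k R L)
    (hYY : Nonempty ((Y.pullback Λ).Equiv (Y'.pullback Λ))) : Nonempty (Y.Equiv Y') := by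
  obtain ⟨e⟩ := hYY
  let F : Subalgebra k (Y.E × Y'.E) :=
    AlgHom.equalizer (Y.proj.comp (AlgHom.fst k Y.E Y'.E)) (Y'.proj.comp (AlgHom.snd k Y.E Y'.E))
  have hF : ∀ x : F, Y.proj x.1.1 = Y'.proj x.1.2 := fun x => x.2
  let dd : L →+ F :=
    { toFun := fun z => ⟨(Y.incl z, Y'.incl z), show Y.proj (Y.incl z) = Y'.proj (Y'.incl z) by rw [proj_incl, proj_incl]⟩
      map_zero' := Subtype.ext (by simp)
      map_add' := fun z w => Subtype.ext (by simp) }
  let Δ : Ideal F :=
    { carrier := Set.range dd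
      add_mem' := by rintro _ _ ⟨z, rfl⟩ ⟨w, rfl⟩; exact ⟨z + w, map_add dd z w⟩
      zero_mem' := ⟨0, map_zero dd⟩
      smul_mem' := by
        rintro x _ ⟨z, rfl⟩
        refine ⟨Y.proj x.1.1 • z, Subtype.ext (Prod.ext ?_ ?_)⟩
        · show Y.incl (Y.proj x.1.1 • z) = x.1.1 * Y.incl z
          rw [Y.isExtension.mul_incl]
        · show Y'.incl (Y.proj x.1.1 • z) = x.1.2 * Y'.incl z
          rw [Y'.isExtension.mul_incl, hF x] }
  let π : F →ₐ[k] R := Y.proj.comp ((AlgHom.fst k Y.E Y'.E).comp F.val)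
  have hπΔ : ∀ x : F, x ∈ Δ → π x = 0 := by
    rintro _ ⟨z, rfl⟩
    exact proj_incl Y z
  let q : F →ₐ[k] F ⧸ Δ := Ideal.Quotient.mkₐ k Δ
  let πW : (F ⧸ Δ) →ₐ[k] R := Ideal.Quotient.liftₐ Δ π hπΔ
  let ι : L →+ F :=
    { toFun := fun z => ⟨(Y.incl z, 0), show Y.proj (Y.incl z) = Y'.proj 0 by rw [proj_incl, map_zero]⟩
      map_zero' := Subtype.ext (by simp)
      map_add' := fun z w => Subtype.ext (by simp) }
  let P := (Y.pullback Λ).E
  let G : P →ₐ[k] F ⧸ Δ := q.comp (AlgHom.codRestrict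
    ((((AlgHom.fst k Y.E Λ).comp (Y.fiberProd Λ).val)).prod
      (((AlgHom.fst k Y'.E Λ).comp (Y'.fiberProd Λ).val).comp e.toAlgEquiv.toAlgHom)) F fun x => by
    show Y.proj x.1.1 = Y'.proj (e.toAlgEquiv x).1.1
    have h1 : Y.proj x.1.1 = algebraMap Λ R x.1.2 := x.2
    have h2 : Y'.proj (e.toAlgEquiv x).1.1 = algebraMap Λ R (e.toAlgEquiv x).1.2 := (e.toAlgEquiv x).2
    rw [h1, h2]
    exact congrArg _ (e.proj_apply x).symm)
  have hGπ : ∀ x : P, πW (G x) = algebraMap Λ R x.1.2 := fun x => x.2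
  have hGker : RingHom.ker (Y.pullback Λ).proj.toRingHom ≤ RingHom.ker G.toRingHom := fun x hx => by
    obtain ⟨z, rfl⟩ := ((Y.pullback Λ).isExtension.exact x).1 hx
    refine Ideal.Quotient.eq_zero_iff_mem.2 ⟨z, Subtype.ext (Prod.ext rfl ?_)⟩
    show Y'.incl z = (e.toAlgEquiv ((Y.pullback Λ).incl z)).1.1
    rw [e.apply_incl]
    rfl
  let g : Λ →+* F ⧸ Δ := RingHom.liftOfSurjective (Y.pullback Λ).proj.toRingHom
    (Y.pullback Λ).isExtension.proj_surjective ⟨G.toRingHom, hGker⟩
  have hg : ∀ x : P, g ((Y.pullback Λ).proj x) = G x := fun x =>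
    RingHom.liftOfSurjective_comp_apply _ _ ⟨G.toRingHom, hGker⟩ x
  letI : Algebra Λ (F ⧸ Δ) := @RingHom.toAlgebra Λ (F ⧸ Δ) _ (inferInstance : CommSemiring (F ⧸ Δ)) g
  have hpr : ∀ a : Λ, πW (algebraMap Λ (F ⧸ Δ) a) = algebraMap Λ R a := fun a => by
    obtain ⟨x, rfl⟩ := (Y.pullback Λ).isExtension.proj_surjective a
    show πW (g ((Y.pullback Λ).proj x)) = algebraMap Λ R ((Y.pullback Λ).proj x)
    rw [hg, hGπ]
    rfl
  let pr : (F ⧸ Δ) →ₐ[Λ] R := AlgHom.mk πW.toRingHom hpr
  let W : Exal.Ext Λ R L :=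
    { E := F ⧸ Δ
      proj := pr
      incl := q.toRingHom.toAddMonoidHom.comp ι
      isExtension :=
        { proj_surjective := fun r => by
            obtain ⟨y, hy⟩ := Y.isExtension.proj_surjective r
            obtain ⟨y', hy'⟩ := Y'.isExtension.proj_surjective r
            exact ⟨q ⟨(y, y'), show Y.proj y = Y'.proj y' by rw [hy, hy']⟩, hy⟩
          incl_injective := fun z w hzw => by
            obtain ⟨v, hv⟩ := Ideal.Quotient.eq.1 hzw
            have h2 := congrArg (fun x : F => x.1.2) hv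
            change Y'.incl v = 0 - 0 at h2
            rw [sub_zero, ← map_zero Y'.incl] at h2
            have h1 := congrArg (fun x : F => x.1.1) hv
            change Y.incl v = Y.incl z - Y.incl w at h1
            rw [Y'.isExtension.incl_injective h2, map_zero, eq_comm, sub_eq_zero] at h1
            exact Y.isExtension.incl_injective h1
          exact := fun x => by
            obtain ⟨⟨⟨y, y'⟩, hyy⟩, rfl⟩ := Ideal.Quotient.mk_surjective x
            constructor
            · intro hx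
              have hy : Y.proj y = 0 := hx
              obtain ⟨z, rfl⟩ := (Y.isExtension.exact y).1 hy
              obtain ⟨z', rfl⟩ := (Y'.isExtension.exact y').1 ((show Y.proj (Y.incl z) = Y'.proj y' from hyy).symm.trans hy)
              refine ⟨z - z', (Ideal.Quotient.eq).2 ⟨-z', Subtype.ext (Prod.ext ?_ ?_)⟩⟩
              · show Y.incl (-z') = Y.incl (z - z') - Y.incl z
                rw [← map_sub]; congr 1; abel
              · show Y'.incl (-z') = 0 - Y'.incl z'
                rw [map_neg, zero_sub]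
            · rintro ⟨z, hz⟩
              show πW _ = 0
              rw [← hz]
              exact proj_incl Y z
          mul_incl := fun x z => by
            obtain ⟨⟨⟨y, y'⟩, hyy⟩, rfl⟩ := Ideal.Quotient.mk_surjective x
            show q _ * q _ = q _
            rw [← map_mul]
            refine congrArg q (Subtype.ext (Prod.ext ?_ (mul_zero y')))
            exact Y.isExtension.mul_incl y z } }
  obtain ⟨s, hs⟩ := h W
  have hsk : ∀ c : k, s (algebraMap k R c) = q (algebraMap k F c) := fun c => by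
    rw [IsScalarTower.algebraMap_apply k Λ R, AlgHom.commutes]
    show g (algebraMap k Λ c) = _
    rw [← AlgHom.commutes (Y.pullback Λ).proj, hg, AlgHom.commutes]
    rfl
  -- the partner of an element
  have hex : ∀ y : Y.E, ∃! y' : Y'.E, ∃ hyy : Y.proj y = Y'.proj y', s (Y.proj y) = q ⟨(y, y'), hyy⟩ := fun y => by
    obtain ⟨⟨⟨y₀, y₀'⟩, h0⟩, hq0⟩ := Ideal.Quotient.mk_surjective (s (Y.proj y))
    have hp : Y.proj y₀ = Y.proj y := by
      have := congrArg πW hq0
      exact Eq.trans this (hs (Y.proj y) : πW (s (Y.proj y)) = Y.proj y)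
    obtain ⟨z, hz⟩ := (Y.isExtension.exact (y - y₀)).1 (by rw [map_sub, hp, sub_self])
    have h0' : Y.proj y₀ = Y'.proj y₀' := h0
    have hnew : Y.proj y = Y'.proj (y₀' + Y'.incl z) :=
      hp.symm.trans (h0'.trans ((add_zero _).symm.trans ((congrArg _ (proj_incl Y' z).symm).trans (map_add Y'.proj _ _).symm)))
    refine ⟨y₀' + Y'.incl z, ⟨hnew, ?_⟩, fun y' hy'' => ?_⟩
    · rw [← hq0]
      refine Ideal.Quotient.eq.2 ⟨-z, Subtype.ext (Prod.ext ?_ ?_)⟩
      · show Y.incl (-z) = y₀ - y
        rw [map_neg, hz, neg_sub]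
      · show Y'.incl (-z) = y₀' - (y₀' + Y'.incl z)
        rw [map_neg]; abel
    · obtain ⟨hyy, hy'⟩ := hy''
      obtain ⟨v, hv⟩ := Ideal.Quotient.eq.1 (hq0.trans hy')
      have h1 : Y.incl v = y₀ - y := congrArg (fun x : F => x.1.1) hv
      have h2 : Y'.incl v = y₀' - y' := congrArg (fun x : F => x.1.2) hv
      have hv' : v = -z := Y.isExtension.incl_injective (by rw [map_neg, hz, h1, neg_sub])
      rw [hv', map_neg] at h2
      linear_combination h2
  choose φ hφ hφu using hex
  have hkey : ∀ a a' (hh : Y.proj a = Y'.proj a'), s (Y.proj a) = q ⟨(a, a'), hh⟩ → φ a = a' :=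
    fun a a' hh h2 => (hφu a a' ⟨hh, h2⟩).symm
  have hadd : ∀ a b, φ (a + b) = φ a + φ b := fun a b => by
    obtain ⟨ha, ha'⟩ := hφ a
    obtain ⟨hb, hb'⟩ := hφ b
    exact hkey _ _ (by rw [map_add, map_add, ha, hb]) ((congrArg s (map_add Y.proj a b)).trans
      ((map_add s _ _).trans ((congrArg₂ (· + ·) ha' hb').trans (map_add q _ _).symm)))
  have hmul : ∀ a b, φ (a * b) = φ a * φ b := fun a b => by
    obtain ⟨ha, ha'⟩ := hφ a
    obtain ⟨hb, hb'⟩ := hφ b
    exact hkey _ _ (by rw [map_mul, map_mul, ha, hb]) ((congrArg s (map_mul Y.proj a b)).trans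
      ((map_mul s _ _).trans ((congrArg₂ (· * ·) ha' hb').trans (map_mul q _ _).symm)))
  have halg : ∀ c : k, φ (algebraMap k Y.E c) = algebraMap k Y'.E c := fun c =>
    hkey _ _ (by rw [AlgHom.commutes, AlgHom.commutes]) ((congrArg s (AlgHom.commutes Y.proj c)).trans (hsk c))
  have hincl : ∀ z, φ (Y.incl z) = Y'.incl z := fun z =>
    hkey _ _ (by rw [proj_incl, proj_incl]) ((congrArg s (proj_incl Y z)).trans ((map_zero s).trans
      (show q (dd z) = 0 from Ideal.Quotient.eq_zero_iff_mem.2 ⟨z, rfl⟩).symm))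
  let Φ : Y.E →ₐ[k] Y'.E :=
    { toFun := φ
      map_one' := by have := halg 1; rwa [map_one, map_one] at this
      map_mul' := hmul
      map_zero' := by have := halg 0; rwa [map_zero, map_zero] at this
      map_add' := hadd
      commutes' := halg }
  have hb : Function.Bijective Φ := by
    refine ⟨(injective_iff_map_eq_zero Φ).2 fun y hy => ?_, fun y' => ?_⟩
    · have h1 : Y.proj y = 0 := by rw [(hφ y).1, show φ y = 0 from hy, map_zero]
      obtain ⟨z, rfl⟩ := (Y.isExtension.exact y).1 h1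
      rw [Y'.isExtension.incl_injective ((hincl z).symm.trans (hy.trans (map_zero Y'.incl).symm)), map_zero]
    · obtain ⟨y, hy⟩ := Y.isExtension.proj_surjective (Y'.proj y')
      obtain ⟨z, hz⟩ := (Y'.isExtension.exact (y' - φ y)).1 (by rw [map_sub, ← (hφ y).1, hy, sub_self])
      exact ⟨y + Y.incl z, by show φ _ = y'; rw [hadd, hincl, hz, add_sub_cancel]⟩
  exact ⟨{ toAlgEquiv := AlgEquiv.ofBijective Φ hb, proj_apply := fun y => ((hφ y).1).symm, apply_incl := hincl }⟩

attribute [local instance] Exal.opModule Exal.isCentralScalar_opModule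

theorem derivation_extends [IsScalarTower k R L] (h : ∀ X : Exal.Ext Λ R L, X.IsTrivial) (D : Derivation k Λ L) :
    ∃ D' : Derivation k R L, ∀ a : Λ, D' (algebraMap Λ R a) = D a := by
  obtain ⟨s, hs⟩ := h (Exal.Ext.ofDerivation (A := k) (B := Λ) (C := R) D)
  have hfst : ∀ r : R, TrivSqZeroExt.fst (R := R) (M := L) (s r) = r := hs
  let D' : R →ₗ[k] L :=
    { toFun := fun r => TrivSqZeroExt.snd (R := R) (M := L) (s r)
      map_add' := fun x y => congrArg (fun z => TrivSqZeroExt.snd (R := R) (M := L) z) (map_add s x y)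
      map_smul' := fun c x => by
        rw [Algebra.smul_def, IsScalarTower.algebraMap_apply k Λ R, map_mul, AlgHom.commutes]
        show TrivSqZeroExt.fst (R := R) (M := L) (algebraMap Λ (Exal.Ext.DerCarrier (C := R) D) (algebraMap k Λ c)) •
          TrivSqZeroExt.snd (R := R) (M := L) (s x) + TrivSqZeroExt.fst (R := R) (M := L) (s x) •
          TrivSqZeroExt.snd (R := R) (M := L) (algebraMap Λ (Exal.Ext.DerCarrier (C := R) D) (algebraMap k Λ c)) = c • TrivSqZeroExt.snd (R := R) (M := L) (s x)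
        have h1 : TrivSqZeroExt.fst (R := R) (M := L) (algebraMap Λ (Exal.Ext.DerCarrier (C := R) D) (algebraMap k Λ c)) = algebraMap k R c := by
          refine (Exal.Ext.ofDerivation (A := k) (B := Λ) (C := R) D).proj.commutes (algebraMap k Λ c) |>.trans ?_
          exact (IsScalarTower.algebraMap_apply k Λ R c).symm
        have h2 : TrivSqZeroExt.snd (R := R) (M := L) (algebraMap Λ (Exal.Ext.DerCarrier (C := R) D) (algebraMap k Λ c)) = 0 := by
          show (0 : L) + D (algebraMap k Λ c) = 0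
          rw [D.map_algebraMap, add_zero]
        rw [h1, h2, smul_zero, add_zero, algebraMap_smul] }
  refine ⟨Derivation.mk' D' fun x y => ?_, fun a => ?_⟩
  · show TrivSqZeroExt.snd (R := R) (M := L) (s (x * y)) = _
    rw [map_mul]
    show TrivSqZeroExt.fst (R := R) (M := L) (s x) • TrivSqZeroExt.snd (R := R) (M := L) (s y) +
      TrivSqZeroExt.fst (R := R) (M := L) (s y) • TrivSqZeroExt.snd (R := R) (M := L) (s x) = _
    rw [hfst, hfst]
    rfl
  · show TrivSqZeroExt.snd (R := R) (M := L) (s (algebraMap Λ R a)) = D a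
    rw [AlgHom.commutes]
    exact zero_add _

theorem isTrivial_of_criterion [IsScalarTower k R L]
    (ha : ∀ D : Derivation k Λ L, ∃ D' : Derivation k R L, ∀ a : Λ, D' (algebraMap Λ R a) = D a)
    (hb : ∀ Y Y' : Exal.Ext k R L, Nonempty ((Y.pullback Λ).Equiv (Y'.pullback Λ)) → Nonempty (Y.Equiv Y'))
    (X : Exal.Ext Λ R L) : X.IsTrivial := by
  let Y := X.restrictBase k
  let Y' : Exal.Ext k R L := Exal.Ext.trivial k R L
  let c : Λ →+* Y'.E := (TrivSqZeroExt.inlHom R L).comp (algebraMap Λ R)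
  let w : Λ → Y.E := fun a => algebraMap Λ X.E a
  have hw : ∀ a, Y.proj (w a) = algebraMap Λ R a := fun a => X.proj.commutes a
  have hwadd : ∀ a b, w (a + b) = w a + w b := fun a b => map_add (algebraMap Λ X.E) a b
  have hwmul : ∀ a b, w (a * b) = w a * w b := fun a b => map_mul (algebraMap Λ X.E) a b
  have hw0 : w 0 = 0 := map_zero (algebraMap Λ X.E)
  have hp : ∀ p : (Y.pullback Λ).E, Y.proj (p.1.1 - w p.1.2) = 0 := fun p => by
    rw [map_sub, hw, sub_eq_zero]; exact p.2
  choose r hr using fun p => (Y.isExtension.exact _).1 (hp p)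
  have hu : ∀ p z, Y.incl z = p.1.1 - w p.1.2 → r p = z := fun p z hz => Y.isExtension.incl_injective ((hr p).trans hz.symm)
  let Φ : (Y.pullback Λ).E → (Y'.pullback Λ).E := fun p => ⟨(c p.1.2 + Y'.incl (r p), p.1.2), by
    show Y'.proj (c p.1.2 + Y'.incl (r p)) = algebraMap Λ R p.1.2
    rw [map_add, proj_incl, add_zero]
    rfl⟩
  have hΦ1 : ∀ x y, Φ (x + y) = Φ x + Φ y := fun x y => by
    have h : r (x + y) = r x + r y := hu _ _ (by
      rw [map_add, hr, hr]
      show _ = (x.1.1 + y.1.1 : Y.E) - w (x.1.2 + y.1.2)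
      rw [hwadd]
      abel)
    refine Subtype.ext (Prod.ext ?_ rfl)
    show c (x.1.2 + y.1.2) + Y'.incl (r (x + y)) = _
    rw [h, map_add, map_add]
    show _ = c x.1.2 + Y'.incl (r x) + (c y.1.2 + Y'.incl (r y))
    abel
  have hcp : ∀ a, Y'.proj (c a) = algebraMap Λ R a := fun a => rfl
  have hΦ2 : ∀ x y, Φ (x * y) = Φ x * Φ y := fun x y => by
    have h : r (x * y) = algebraMap Λ R x.1.2 • r y + algebraMap Λ R y.1.2 • r x := hu _ _ (by
      have e1 : Y.incl (algebraMap Λ R x.1.2 • r y) = w x.1.2 * (y.1.1 - w y.1.2) := by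
        rw [← hw, ← Y.isExtension.mul_incl, hr]
      have e2 : Y.incl (algebraMap Λ R y.1.2 • r x) = w y.1.2 * (x.1.1 - w x.1.2) := by
        rw [← hw, ← Y.isExtension.mul_incl, hr]
      have e3 : (x.1.1 - w x.1.2) * (y.1.1 - w y.1.2) = 0 := by
        rw [← hr x, ← hr y, Y.isExtension.mul_incl, proj_incl, zero_smul, map_zero]
      rw [map_add, e1, e2]
      show _ = x.1.1 * y.1.1 - w (x.1.2 * y.1.2)
      rw [hwmul]
      linear_combination -e3)
    refine Subtype.ext (Prod.ext ?_ rfl)
    show c (x.1.2 * y.1.2) + Y'.incl (r (x * y)) = (c x.1.2 + Y'.incl (r x)) * (c y.1.2 + Y'.incl (r y))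
    rw [h, map_mul, map_add, ← hcp, ← hcp, ← Y'.isExtension.mul_incl, ← Y'.isExtension.mul_incl]
    have e3 : Y'.incl (r x) * Y'.incl (r y) = 0 := by rw [Y'.isExtension.mul_incl, proj_incl, zero_smul, map_zero]
    linear_combination -e3
  have hΦ3 : ∀ t : k, Φ (algebraMap k _ t) = algebraMap k _ t := fun t => by
    have h : r (algebraMap k _ t) = 0 := hu _ _ (by
      rw [map_zero]
      exact (sub_self _).symm)
    refine Subtype.ext (Prod.ext ?_ rfl)
    show c (algebraMap k Λ t) + Y'.incl (r _) = algebraMap k Y'.E t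
    rw [h, map_zero, add_zero]
    show TrivSqZeroExt.inl (algebraMap Λ R (algebraMap k Λ t)) = _
    rw [← IsScalarTower.algebraMap_apply]
    rfl
  have hΦi : ∀ z, Φ ((Y.pullback Λ).incl z) = (Y'.pullback Λ).incl z := fun z => by
    have h : r ((Y.pullback Λ).incl z) = z := hu _ _ (by
      show _ = Y.incl z - w 0
      rw [hw0]
      exact (sub_zero _).symm)
    refine Subtype.ext (Prod.ext ?_ rfl)
    show c 0 + Y'.incl (r _) = Y'.incl z
    rw [h, map_zero, zero_add]
  let Φa : (Y.pullback Λ).E →ₐ[k] (Y'.pullback Λ).E :=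
    { toFun := Φ
      map_one' := by have := hΦ3 1; rwa [map_one, map_one] at this
      map_mul' := hΦ2
      map_zero' := by have := hΦ3 0; rwa [map_zero, map_zero] at this
      map_add' := hΦ1
      commutes' := hΦ3 }
  have hbij : Function.Bijective Φa := by
    refine ⟨(injective_iff_map_eq_zero Φa).2 fun p hpz => ?_, fun q => ?_⟩
    · obtain ⟨z, rfl⟩ := ((Y.pullback Λ).isExtension.exact p).1 (congrArg (fun q => q.1.2) hpz)
      have h0 : (Y'.pullback Λ).incl z = (Y'.pullback Λ).incl 0 := by rw [← hΦi, map_zero]; exact hpz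
      rw [(Y'.pullback Λ).isExtension.incl_injective h0, map_zero]
    · obtain ⟨p, hp⟩ := (Y.pullback Λ).isExtension.proj_surjective q.1.2
      obtain ⟨z, hz⟩ := ((Y'.pullback Λ).isExtension.exact (q - Φa p)).1 (by
        show q.1.2 - p.1.2 = 0
        rw [sub_eq_zero]; exact hp.symm)
      refine ⟨p + (Y.pullback Λ).incl z, ?_⟩
      rw [map_add]
      show Φa p + Φ _ = q
      rw [hΦi, hz, add_sub_cancel]
  obtain ⟨e⟩ := hb Y Y' ⟨{ toAlgEquiv := AlgEquiv.ofBijective Φa hbij, proj_apply := fun _ => rfl, apply_incl := hΦi }⟩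
  let s₀ : R →+* Y.E := e.toAlgEquiv.symm.toRingEquiv.toRingHom.comp (TrivSqZeroExt.inlHom R L)
  have hs₀ : ∀ x, Y.proj (s₀ x) = x := fun x => e.symm.proj_apply _
  have hd : ∀ a, Y.proj (w a - s₀ (algebraMap Λ R a)) = 0 := fun a => by rw [map_sub, hw, hs₀, sub_self]
  choose D hD using fun a => (Y.isExtension.exact _).1 (hd a)
  have hDu : ∀ a z, Y.incl z = w a - s₀ (algebraMap Λ R a) → D a = z := fun a z hz =>
    Y.isExtension.incl_injective ((hD a).trans hz.symm)
  have hsk : ∀ t : k, s₀ (algebraMap k R t) = algebraMap k Y.E t := fun t => e.toAlgEquiv.symm.commutes t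
  have hwk : ∀ t : k, w (algebraMap k Λ t) = algebraMap k Y.E t := fun t => rfl
  have hDadd : ∀ a b, D (a + b) = D a + D b := fun a b => hDu _ _ (by
    rw [map_add, hD, hD, hwadd, map_add, map_add]; abel)
  have hDk : ∀ t, D (algebraMap k Λ t) = 0 := fun t => hDu _ _ (by
    rw [map_zero, hwk, ← IsScalarTower.algebraMap_apply, hsk, sub_self])
  have hDmul : ∀ a b, D (a * b) = a • D b + b • D a := fun a b => hDu _ _ (by
    have e1 : Y.incl (a • D b) = w a * (w b - s₀ (algebraMap Λ R b)) := by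
      rw [← hD b, Y.isExtension.mul_incl, hw, algebraMap_smul]
    have e2 : Y.incl (b • D a) = w b * (w a - s₀ (algebraMap Λ R a)) := by
      rw [← hD a, Y.isExtension.mul_incl, hw, algebraMap_smul]
    have e3 : (w a - s₀ (algebraMap Λ R a)) * (w b - s₀ (algebraMap Λ R b)) = 0 := by
      rw [← hD a, ← hD b, Y.isExtension.mul_incl, proj_incl, zero_smul, map_zero]
    rw [map_add, e1, e2, hwmul, map_mul, map_mul]
    linear_combination e3)
  let Dd : Derivation k Λ L := Derivation.mk'
    { toFun := D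
      map_add' := hDadd
      map_smul' := fun t a => by
        rw [Algebra.smul_def, hDmul, hDk, smul_zero, add_zero, algebraMap_smul]
        rfl } hDmul
  obtain ⟨D', hD'⟩ := ha Dd
  let t : R →+* Y.E :=
    { toFun := fun x => s₀ x + Y.incl (D' x)
      map_one' := by rw [map_one, Derivation.map_one_eq_zero, map_zero, add_zero]
      map_zero' := by rw [map_zero, map_zero, map_zero, add_zero]
      map_add' := fun x y => by rw [map_add, map_add, map_add]; abel
      map_mul' := fun x y => by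
        have e3 : Y.incl (D' x) * Y.incl (D' y) = 0 := by rw [Y.isExtension.mul_incl, proj_incl, zero_smul, map_zero]
        have e1 : Y.incl (x • D' y) = s₀ x * Y.incl (D' y) := by rw [Y.isExtension.mul_incl, hs₀]
        have e2 : Y.incl (y • D' x) = s₀ y * Y.incl (D' x) := by rw [Y.isExtension.mul_incl, hs₀]
        rw [Derivation.leibniz, map_add, map_mul, e1, e2]
        linear_combination -e3 }
  refine ⟨{ (t : R →+* X.E) with commutes' := fun a => ?_ }, fun x => ?_⟩
  · show s₀ (algebraMap Λ R a) + Y.incl (D' (algebraMap Λ R a)) = w a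
    rw [hD', show Dd a = D a from rfl, hD, add_sub_cancel]
  · show Y.proj (s₀ x + Y.incl (D' x)) = x
    rw [map_add, proj_incl, add_zero, hs₀]

end KaExtLib
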