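import Groth.Prelude.Def_Exal
import Mathlib

/-! The extension attached to a linear map out of an ideal. -/

set_option autoImplicit false

universe u

namespace KaExtLib

attribute [local instance] Exal.opModule Exal.isCentralScalar_opModule

theorem exists_ext_of_linearMap {Λ P L : Type u} [CommRing Λ] [CommRing P] [Algebra Λ P] (J : Ideal P)
    [AddCommGroup L] [Module P L] [Module (P ⧸ J) L] [IsScalarTower P (P ⧸ J) L] (δ : J →ₗ[P] L) :
    ∃ (X : Exal.Ext Λ (P ⧸ J) L) (u : P →ₐ[Λ] X.E),
      (∀ p, X.proj (u p) = Ideal.Quotient.mk J p) ∧ ∀ j : J, X.incl (δ j) = u j := by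
  let K : Ideal (TrivSqZeroExt P L) :=
    { carrier := Set.range fun j : J => (TrivSqZeroExt.inl (j : P) - TrivSqZeroExt.inr (δ j) : (TrivSqZeroExt P L))
      add_mem' := by
        rintro _ _ ⟨a, rfl⟩ ⟨b, rfl⟩
        refine ⟨a + b, ?_⟩
        ext <;> simp [map_add]
        abel
      zero_mem' := ⟨0, by ext <;> simp⟩
      smul_mem' := by
        rintro w _ ⟨j, rfl⟩
        refine ⟨TrivSqZeroExt.fst w • j, ?_⟩
        ext
        · simp
        · have h0 : (j : P) • TrivSqZeroExt.snd w = 0 := by
            rw [← IsScalarTower.algebraMap_smul (P ⧸ J), Ideal.Quotient.algebraMap_eq,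
              Ideal.Quotient.eq_zero_iff_mem.2 j.2, zero_smul]
          simp [h0, smul_neg] }
  letI : Algebra Λ ((TrivSqZeroExt P L) ⧸ K) := ((Ideal.Quotient.mk K).comp ((TrivSqZeroExt.inlHom P L).comp (algebraMap Λ P))).toAlgebra
  let π : (TrivSqZeroExt P L) →+* P ⧸ J :=
    { toFun := fun w => Ideal.Quotient.mk J (TrivSqZeroExt.fst w)
      map_one' := by simp
      map_mul' := fun a b => by simp
      map_zero' := by simp
      map_add' := fun a b => by simp }
  have hπ : ∀ w ∈ K, π w = 0 := by
    rintro _ ⟨j, rfl⟩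
    show Ideal.Quotient.mk J (TrivSqZeroExt.fst (TrivSqZeroExt.inl (j : P) - TrivSqZeroExt.inr (δ j) : (TrivSqZeroExt P L))) = 0
    simp [Ideal.Quotient.eq_zero_iff_mem.2 j.2]
  let pr : ((TrivSqZeroExt P L) ⧸ K) →ₐ[Λ] P ⧸ J := AlgHom.mk (Ideal.Quotient.lift K π hπ) fun a => rfl
  let X : Exal.Ext Λ (P ⧸ J) L :=
    { E := (TrivSqZeroExt P L) ⧸ K
      proj := pr
      incl := (Ideal.Quotient.mk K).toAddMonoidHom.comp (TrivSqZeroExt.inrHom P L).toAddMonoidHom
      isExtension :=
        { proj_surjective := fun r => by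
            obtain ⟨p, rfl⟩ := Ideal.Quotient.mk_surjective r
            exact ⟨Ideal.Quotient.mk K (TrivSqZeroExt.inl p), rfl⟩
          incl_injective := fun a b hab => by
            obtain ⟨j, hj⟩ := Ideal.Quotient.eq.1 hab
            have h1 := congrArg TrivSqZeroExt.fst hj
            have h2 := congrArg TrivSqZeroExt.snd hj
            simp at h1 h2
            rw [h1, map_zero, neg_zero, eq_comm, sub_eq_zero] at h2
            exact h2
          exact := fun x => by
            obtain ⟨w, rfl⟩ := Ideal.Quotient.mk_surjective x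
            constructor
            · intro hx
              have hw : TrivSqZeroExt.fst w ∈ J := Ideal.Quotient.eq_zero_iff_mem.1 hx
              refine ⟨TrivSqZeroExt.snd w + δ ⟨_, hw⟩, Ideal.Quotient.eq.2 ⟨-⟨_, hw⟩, ?_⟩⟩
              ext <;> simp
            · rintro ⟨z, hz⟩
              rw [← hz]
              exact (congrArg (Ideal.Quotient.mk J) (TrivSqZeroExt.fst_inr (R := P) z)).trans (map_zero _)
          mul_incl := fun x z => by
            obtain ⟨w, rfl⟩ := Ideal.Quotient.mk_surjective x
            show Ideal.Quotient.mk K w * Ideal.Quotient.mk K (TrivSqZeroExt.inr z) =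
              Ideal.Quotient.mk K (TrivSqZeroExt.inr (Ideal.Quotient.mk J (TrivSqZeroExt.fst w) • z))
            rw [← map_mul]
            congr 1
            rw [← Ideal.Quotient.algebraMap_eq, IsScalarTower.algebraMap_smul]
            ext <;> simp } }
  refine ⟨X, AlgHom.mk ((Ideal.Quotient.mk K).comp (TrivSqZeroExt.inlHom P L)) (fun a => rfl), fun p => rfl, fun j => ?_⟩
  exact Ideal.Quotient.eq.2 ⟨-j, by ext <;> simp⟩

end KaExtLib
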